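import Cfsg.Prelude
import Cfsg.Agent.Lib.Cores
import Cfsg.Agent.Nodes.RGDFoldSL

/-!
# R3 exceptional: interfaces (helper554, TEAM RV)

* `FrA ψ T` : a frame of commuting `SL₂(k)`'s, `k` algebraically closed;
* `KOK ψ T p i₀ K P N` : the finite subgroup `K`, `P = O₂(K)`, `N` the odd toral normal subgroup.
-/

set_option autoImplicit false

namespace Cfsg.Agent.H554.RX

open Cfsg.Agent.Nodes.RGDFoldSL (wS hS)

universe u v w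

/-- a frame of commuting `SL₂(k)`'s -/
structure FrA {k : Type u} [Field k] {Γ : Type v} [Group Γ] {ι : Type w}
    (ψ : ι → Matrix.SpecialLinearGroup (Fin 2) k →* Γ) (T : Subgroup Γ) : Prop where
  inj : ∀ i, Function.Injective (ψ i)
  zinj : ∀ i j, ψ i (hS (-1)) = ψ j (hS (-1)) → i = j
  comm : ∀ i j, i ≠ j → ∀ A B, ψ i A * ψ j B = ψ j B * ψ i A
  /-- `C(z_i) = L_i C(L_i)` -/
  lc : ∀ i g, g * ψ i (hS (-1)) = ψ i (hS (-1)) * g → ∃ A c, (∀ B, c * ψ i B = ψ i B * c) ∧ g = ψ i A * c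
  /-- the centraliser of the frame is toral -/
  cen : ∀ g, (∀ i A, g * ψ i A = ψ i A * g) → g ∈ T
  abel : ∀ s ∈ T, ∀ t ∈ T, s * t = t * s
  dg : ∀ i, ∀ c : k, c ≠ 0 → ψ i (hS c) ∈ T
  /-- the conjugates of the `z_i` centralising the frame (`H971.RV.FrOK.inv`) -/
  inv : ∀ g i, (∀ j A, (g * ψ i (hS (-1)) * g⁻¹) * ψ j A = ψ j A * (g * ψ i (hS (-1)) * g⁻¹)) →
    ∃ j, g * ψ i (hS (-1)) * g⁻¹ = ψ j (hS (-1))

/-- the finite group `K` with `P = O₂(K)` and the odd toral normal subgroup `N` -/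
structure KOK {k : Type u} [Field k] {Γ : Type v} [Group Γ] {ι : Type w}
    (ψ : ι → Matrix.SpecialLinearGroup (Fin 2) k →* Γ) (T : Subgroup Γ) (p : ℕ) (i₀ : k) (K P N : Subgroup Γ) :
    Prop where
  fin : Finite K
  three : ¬ 3 ∣ Nat.card K
  char : ¬ p ∣ Nat.card K
  x : ∀ i, ψ i (hS i₀) ∈ K
  n : ∀ i, ψ i (wS 1) ∈ K
  PK : P ≤ K
  Pn : ∀ g ∈ K, ∀ a ∈ P, g * a * g⁻¹ ∈ P
  P2 : IsPGroup 2 P
  NK : N ≤ K
  Nn : ∀ g ∈ K, ∀ a ∈ N, g * a * g⁻¹ ∈ N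
  No : Odd (Nat.card N)
  NT : N ≤ T
  cen : ∀ g ∈ K, (∀ a ∈ N, g * a = a * g) → (∀ a ∈ P, g * a = a * g) → g ∈ P ⊔ N

end Cfsg.Agent.H554.RX
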