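import Cfsg.Agent.H550.RX.FinC
import Cfsg.Agent.H554.BS.Row6
import Cfsg.Agent.H971.RV.Embed
import Cfsg.Agent.H971.RV.RowsB
import Cfsg.Agent.H959.RV.Two

/-!
# Box R3, exceptional groups: the rows `E₆` and `²E₆` (helper554, TEAM RV)

Exactly the fields `e6_3`, `tw_3` of `H959.RV.OpenRows`.
-/

set_option autoImplicit false
set_option linter.unusedSectionVars false

namespace Cfsg.Agent.H554.RX

open CoxeterSystem Cfsg Cfsg.Lie Cfsg.Lie.ChevalleyDatum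
open Cfsg.Agent.ChevalleyStructure Cfsg.Agent.ChevalleyStructure.Elts Cfsg.Agent.ChevalleyStructure.CoxeterGeom
  Cfsg.Agent.ChevalleyStructure.CoxeterGeomTypes Cfsg.Agent.ChevalleyStructure.NPerm
open Cfsg.Agent.Tits.Roots Cfsg.Agent.Tits.Core Cfsg.Agent.Nodes Cfsg.Agent.Nodes.Reps Cfsg.Agent.Nodes.BNOf
  Cfsg.Agent.Nodes.RGDChev Cfsg.Agent.Nodes.Bruhat Cfsg.Agent.Nodes.NormalForm
open Cfsg.Agent.KFacts.RgdField Cfsg.Agent.KFacts.RgdChevCoord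
open Cfsg.Agent.BpExc Cfsg.Agent.BpExc.TorCent Cfsg.Agent.BpExc.TorChev Cfsg.Agent.BpExc.Tow
  Cfsg.Agent.BpExc.TowChev Cfsg.Agent.BpExc.Fr Cfsg.Agent.BpExc.Pair Cfsg.Agent.BpExc.LangFr Cfsg.Agent.GpExc.Field
  Cfsg.Agent.BpExc.TorAll
open Cfsg.Agent.H469.Exc Cfsg.Agent.H469.Exc.SigFr
open Cfsg.Agent.Nodes.RGDFoldSL
open Cfsg.Agent.ChevalleyStructure.SL2Hom (up lo mem_closure_SL2)
open Cfsg.Agent.H167.EX Cfsg.Agent.H795.LangT Cfsg.Agent.H129.TorusChar Cfsg.Agent.H129.TorusUntw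
open Cfsg.Agent.H554.BS Cfsg.Agent.H795.Core Cfsg.Agent.H720.TwFr
open Cfsg.Agent.ChevalleyStructure.GraphSymm

universe u v w

/-- the lists of the frame lie in the frame -/
theorem LL_sub' (ε : ℤ) : ∀ s ∈ LL ε, s ∈ FE6 := by
  intro s hs
  unfold LL at hs
  split_ifs at hs
  · simp at hs
  · exact hs

theorem ll_a' {g : (Fin 6 → ℤ) ≃+ (Fin 6 → ℤ)} (hgF : ∀ s ∈ FE6, ∀ i : Fin 6, fs chevE6 6 s (g.symm (sr i)) = fs chevE6 6 s (sr i))
    {ε : ℤ} (hε : ε = 1 ∨ ε = -1) {s : ℕ} (hs : s ∈ FE6) (x : Fin 6 → ℤ) :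
    fs chevE6 6 s (g.symm (rhoL chevE6 6 (LL ε) x)) = ε * fs chevE6 6 s x := by
  have h1 : ∀ x, fs chevE6 6 s (g.symm x) = fs chevE6 6 s x := fun x =>
    addHom_ext (f := (fsM chevE6 6 s).comp g.symm.toAddMonoidHom) (g := fsM chevE6 6 s) (fun i => hgF s hs i) x
  rw [h1]
  rcases hε with rfl | rfl
  · rw [one_mul]
    rfl
  · rw [neg_mul, one_mul]
    exact addHom_ext (f := (fsM chevE6 6 s).comp (rhoM chevE6 6 FE6)) (g := -(fsM chevE6 6 s))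
      (fun i => H550.RX.fsFE6 s hs i) x

/-- **The rows of type `E₆`.** -/
theorem row_six3 {k : Type u} [Field k] [IsAlgClosed k] (hk : LocFin k) {p e : ℕ} [hpp : Fact p.Prime] [CharP k p]
    {G : Type w} [Group G] {ι : G →* ↥(chevE6.group k)} {σ : MulAut ↥(chevE6.group k)}
    {g : (Fin 6 → ℤ) ≃+ (Fin 6 → ℤ)} (hg : SixG g)
    (hgF : ∀ s ∈ FE6, ∀ i : Fin 6, fs chevE6 6 s (g.symm (sr i)) = fs chevE6 6 s (sr i))
    (set2 : Setup hp6 2 p e ι σ g) (hσ : ∀ s ∈ FE6, σ (wE hp6 k s) = wE hp6 k s)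
    {π : Set ℕ} (hpπ : p ∉ π) {S : Type v} [Group S] [Finite S]
    (hE : IsEPiGroup π S) (h2π : 2 ∈ π) (h3π : 3 ∉ π) (hS : Nonempty (S ≃* G)) : H959.RV.FTwo π S := by
  have := Fact.mk Nat.prime_two
  have hp2 : p ≠ 2 := fun h => hpπ (h ▸ h2π)
  have h2 : (2 : k) ≠ 0 := by
    intro h
    have h1 : p ∣ 2 := (CharP.cast_eq_zero_iff k p 2).1 (by exact_mod_cast h)
    exact hp2 ((Nat.prime_dvd_prime_iff_eq hpp.out Nat.prime_two).1 h1)
  obtain ⟨i, hi⟩ := exists_i k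
  have hi0 := i_ne_zero hi
  have hodd : Odd (p ^ e) := (hpp.out.eq_two_or_odd'.resolve_left hp2).pow
  obtain ⟨ε, hε, h4⟩ := exists_eps hodd
  have hL1 : ∀ s ∈ ME6, s < chevE6.nroots ∧ g (vec chevE6 6 s) = vec chevE6 6 s := fun s hs => ⟨ltME6 s hs, hg.fix s hs⟩
  obtain ⟨z, hzw, hiff, -⟩ := exists_twist_Z hp6 hk set2.e_pos set2.frob set2.fr (LL_sub ε) hL1
  obtain ⟨φ⟩ := hS
  let f : S →* ↥(chevE6.group k) := ι.comp φ.toMonoidHom
  have hf : Function.Injective f := set2.inj.comp φ.injective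
  have hfφ : ∀ y, f (φ.symm y) = ι y := fun y => by
    show ι (φ (φ.symm y)) = _
    rw [MulEquiv.apply_symm_apply]
  have hmem : ∀ s (hlt : s < chevE6.nroots), (∀ x, fs chevE6 6 s (g.symm (rhoL chevE6 6 (LL ε) x)) = ε * fs chevE6 6 s x) →
      ∃ a, f a = z * xd hp6 i s * z⁻¹ := by
    intro s hlt hx
    have h1 := fixed_ph hp6 hk hiff (eps_sq hε) hlt p hx (n := 4) (by exact_mod_cast h4) hi0 (i_four hi)
    obtain ⟨y, hy⟩ := set2.p_mem _ h1 ⟨2, by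
      rw [show (2 : ℕ) ^ 2 = 4 by norm_num, conj_pow, ← map_pow, hS_pow hi0, i_four hi, hS_one, map_one]; group⟩
    refine ⟨φ.symm y, ?_⟩
    rw [xd_lt hp6 hlt, hfφ, hy]
  refine H550.RX.fTwo_gen hp6 p hk h2π h3π hpπ hi H550.RX.ltFE6 H808.RV.tabO_E6 hE hf (z := z) (L1 := LE6)
    (fun s hs => hmem s (ltE6 s hs) fun x => ll_a hg hε hs x) (fun s hs => hmem s (H550.RX.ltFE6 s hs) fun x => ll_a' hgF hε hs x)
    (fun s hs => ?_) (H550.RX.twoN_E6 h2 p hk hi) (fun Q hQ _ => ⟨Q, hQ, le_rfl, fun _ _ => trivial⟩)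
  obtain ⟨y, hy⟩ := H550.RX.wE_mem hp6 set2 H550.RX.ltFE6 H808.RV.tabO_E6 hσ (LL_sub' ε) hzw hs
  exact ⟨φ.symm y, by rw [hfφ, hy]⟩

section Rows

variable {k : Type u} [Field k] [IsAlgClosed k] (p : ℕ) [Fact p.Prime] [CharP k p]

theorem neg_one_pow_char' : (-1 : k) ^ p = -1 := neg_one_pow_char k p

/-- `φ` fixes `ph_s (wS 1)` -/
theorem phi_wE {D : ChevalleyDatum} {l : ℕ} {M : CoxeterMatrix (Fin l)} (hp : IsType D l M) (e : ℕ) {s : ℕ}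
    (hs : s < D.nroots) : phi D k p e (wE hp k s) = wE hp k s := by
  have h1 := H971.RV.phiT_xs hp p hs e (t := (1 : k)) (one_pow p)
  have h3 := H971.RV.phiT_xs hp p (neg_lt hp.inList hs) e (t := (-1 : k)) (neg_one_pow_char' p)
  exact H550.RX.sig_wE hp hs h1 h3

theorem sgnFE6 : ∀ s ∈ FE6, ∃ r r' : Fin chevE6.nroots, r.val = s ∧ r'.val = chevE6.neg s ∧
    ((symmE6.σ r).val = r.val ∧ symmE6.ε r = 1) ∧ ((symmE6.σ r').val = r'.val ∧ symmE6.ε r' = 1) := by decide +kernel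

theorem sig6_wE (e : ℕ) {s : ℕ} (hs : s ∈ FE6) : sig6 k p e (wE hp6 k s) = wE hp6 k s := by
  obtain ⟨r, r', hr, hr', h1, h2⟩ := sgnFE6 s hs
  refine H550.RX.sig_wE hp6 (H550.RX.ltFE6 s hs) ?_ ?_
  · rw [← hr]
    exact H971.RV.sig6_xs p hp6 e h1 (one_pow p)
  · rw [← hr']
    exact H971.RV.sig6_xs p hp6 e h2 (neg_one_pow_char' p)

end Rows

variable {π : Set ℕ} {S : Type v} [Group S]

theorem e6_3 (h2π : 2 ∈ π) (h3π : 3 ∉ π) (p : ℕ) (_hpp : p.Prime) (hpπ : p ∉ π) (F : Type) [Field F] [Fintype F]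
    [hFp : CharP F p] (hS : Nonempty (S ≃* chevE6.group F)) (hE : IsEPiGroup π S) : H959.RV.FTwo π S := by
  have : Finite S := Finite.of_equiv _ hS.some.symm.toEquiv
  obtain ⟨p', e, hp', hpF', hpk', he, hq, hk⟩ := exists_closure (F := F) rfl
  have hpe : p' = p := CharP.eq F hpF' hFp
  subst hpe
  have := Fact.mk Nat.prime_two
  exact row_six3 hk (ι := emb hp6.inList (algebraMap F (AlgebraicClosure F))) sixG_refl (fun _ _ _ => rfl)
    (Cfsg.Agent.H795.Untw.setup_untw hp6 hk _ he hq invC_E6 (by norm_num) (Or.inr Nat.prime_three) (p := 2)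
      (by norm_num)) (fun s hs => phi_wE p' hp6 e (H550.RX.ltFE6 s hs)) hpπ hE h2π h3π hS

theorem tw_3 (h2π : 2 ∈ π) (h3π : 3 ∉ π) (p : ℕ) (_hpp : p.Prime) (hpπ : p ∉ π) (F : Type) [Field F] [Fintype F]
    [hFp : CharP F p] (q : ℕ) (hq : IsPrimePow q) (hK : Fintype.card F = q ^ 2)
    (hS : Nonempty (S ≃* twistedE6 F q)) (hE : IsEPiGroup π S) : H959.RV.FTwo π S := by
  have : Finite S := Finite.of_equiv _ hS.some.symm.toEquiv
  obtain ⟨r, n, hr, hrF, hrk, hn0, hn, hk⟩ := Cfsg.Agent.H795.Tw.exists_closure_q (K := F) two_ne_zero hq hK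
  have hpe : r = p := CharP.eq F hrF hFp
  subst hpe
  have := Fact.mk Nat.prime_two
  exact row_six3 hk (ι := em6 q (algebraMap F (AlgebraicClosure F))) sixG_rho H550.RX.fsFE6'
    (Cfsg.Agent.H795.Tw.setup_six _ r hk hn0 hn hK (p := 2) (by norm_num))
    (fun s hs => sig6_wE r n hs) hpπ hE h2π h3π hS

end Cfsg.Agent.H554.RX
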