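import Cfsg.Agent.H554.RX.Def
import Cfsg.Agent.H554.BS.SLTwo
import Cfsg.Agent.H167.EX.OneA

/-!
# The quaternion group in `SL₂(k)` (helper554, TEAM RV, box R3 exceptional)
-/

set_option autoImplicit false

namespace Cfsg.Agent.H554.RX

open Cfsg.Agent.Nodes.RGDFoldSL (wS hS coe_wS coe_hS)
open Cfsg.Agent.H167.EX

universe u

variable {k : Type u} [Field k]

theorem wS_ent {c : k} (hc : c ≠ 0) : (wS c : SL k).1 0 0 = 0 ∧ (wS c : SL k).1 0 1 = c ∧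
    (wS c : SL k).1 1 0 = -c⁻¹ ∧ (wS c : SL k).1 1 1 = 0 := by
  rw [coe_wS hc]
  exact ⟨rfl, rfl, rfl, rfl⟩

theorem hS_ent {c : k} (hc : c ≠ 0) : (hS c : SL k).1 0 0 = c ∧ (hS c : SL k).1 0 1 = 0 ∧
    (hS c : SL k).1 1 0 = 0 ∧ (hS c : SL k).1 1 1 = c⁻¹ := by
  rw [coe_hS hc]
  exact ⟨rfl, rfl, rfl, rfl⟩

theorem one_ent : (1 : SL k).1 0 0 = 1 ∧ (1 : SL k).1 0 1 = 0 ∧ (1 : SL k).1 1 0 = 0 ∧ (1 : SL k).1 1 1 = 1 := by
  refine ⟨?_, ?_, ?_, ?_⟩ <;> simp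

theorem neg_ent : (hS (-1) : SL k).1 0 0 = -1 ∧ (hS (-1) : SL k).1 0 1 = 0 ∧
    (hS (-1) : SL k).1 1 0 = 0 ∧ (hS (-1) : SL k).1 1 1 = -1 := by
  obtain ⟨h1, h2, h3, h4⟩ := hS_ent (k := k) (c := -1) (neg_ne_zero.2 one_ne_zero)
  refine ⟨h1, h2, h3, h4.trans ?_⟩
  rw [inv_neg, inv_one]

theorem neg_comm (A : SL k) : hS (-1) * A = A * hS (-1) := by
  obtain ⟨h1, h2, h3, h4⟩ := neg_ent (k := k)
  refine sl_ext ?_ ?_ ?_ ?_
  · rw [mul00, mul00, h1, h2, h3]; ring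
  · rw [mul01, mul01, h1, h2, h4]; ring
  · rw [mul10, mul10, h1, h3, h4]; ring
  · rw [mul11, mul11, h2, h3, h4]; ring

theorem neg_mul_neg : (hS (-1) : SL k) * hS (-1) = 1 := by
  obtain ⟨h1, h2, h3, h4⟩ := neg_ent (k := k)
  obtain ⟨g1, g2, g3, g4⟩ := one_ent (k := k)
  refine sl_ext ?_ ?_ ?_ ?_
  · rw [mul00, h1, h2, h3, g1]; ring
  · rw [mul01, h1, h2, h4, g2]; ring
  · rw [mul10, h1, h3, h4, g3]; ring
  · rw [mul11, h2, h3, h4, g4]; ring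

theorem neg_ne_one (h2 : (2 : k) ≠ 0) : (hS (-1) : SL k) ≠ 1 := by
  intro h
  have h1 := (neg_ent (k := k)).1
  rw [h, (one_ent (k := k)).1] at h1
  exact h2 (by linear_combination h1)

/-- scalar matrices of `SL₂` -/
theorem eq_of_scalar {A : SL k} (h1 : A.1 0 1 = 0) (h2 : A.1 1 0 = 0) (h3 : A.1 0 0 = A.1 1 1) :
    A = 1 ∨ A = hS (-1) := by
  have hdet : A.1 0 0 * A.1 1 1 - A.1 0 1 * A.1 1 0 = 1 := by
    rw [← Matrix.det_fin_two, A.2]
  rw [h1, zero_mul, sub_zero, ← h3] at hdet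
  obtain ⟨g1, g2, g3, g4⟩ := one_ent (k := k)
  obtain ⟨n1, n2, n3, n4⟩ := neg_ent (k := k)
  rcases mul_self_eq_one_iff.1 hdet with h | h
  · left
    refine sl_ext ?_ ?_ ?_ ?_
    · rw [h, g1]
    · rw [h1, g2]
    · rw [h2, g3]
    · rw [← h3, h, g4]
  · right
    refine sl_ext ?_ ?_ ?_ ?_
    · rw [h, n1]
    · rw [h1, n2]
    · rw [h2, n3]
    · rw [← h3, h, n4]

theorem central_iff {A : SL k} : (∀ B : SL k, A * B = B * A) ↔ A = 1 ∨ A = hS (-1) := by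
  constructor
  · intro h
    have e1 : (A * hS (-1) : SL k) = A * hS (-1) := rfl
    have hw := h (wS 1)
    obtain ⟨w1, w2, w3, w4⟩ := wS_ent (k := k) (c := 1) one_ne_zero
    have a1 : (A * wS 1).1 0 0 = (wS 1 * A).1 0 0 := by rw [hw]
    have a2 : (A * wS 1).1 0 1 = (wS 1 * A).1 0 1 := by rw [hw]
    rw [mul00, mul00, w1, w2, w3] at a1
    rw [mul01, mul01, w1, w2, w4] at a2
    have hu := h (Cfsg.Agent.ChevalleyStructure.SL2Hom.up 1)
    have u1 : (Cfsg.Agent.ChevalleyStructure.SL2Hom.up (1 : k)).1 0 0 = 1 := rfl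
    have u2 : (Cfsg.Agent.ChevalleyStructure.SL2Hom.up (1 : k)).1 0 1 = 1 := rfl
    have u3 : (Cfsg.Agent.ChevalleyStructure.SL2Hom.up (1 : k)).1 1 0 = 0 := rfl
    have u4 : (Cfsg.Agent.ChevalleyStructure.SL2Hom.up (1 : k)).1 1 1 = 1 := rfl
    have a3 : (A * Cfsg.Agent.ChevalleyStructure.SL2Hom.up 1).1 0 0 =
      (Cfsg.Agent.ChevalleyStructure.SL2Hom.up 1 * A).1 0 0 := by rw [hu]
    rw [mul00, mul00, u1, u2, u3] at a3
    have h10 : A.1 1 0 = 0 := by linear_combination -a3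
    have h01 : A.1 0 1 = 0 := by
      rw [inv_one] at a1
      linear_combination -a1 - h10
    have h00 : A.1 0 0 = A.1 1 1 := by linear_combination a2
    exact eq_of_scalar h01 h10 h00
  · rintro (rfl | rfl) B
    · rw [one_mul, mul_one]
    · exact neg_comm B

/-- the unique involution -/
theorem uniq_inv (h2 : (2 : k) ≠ 0) {A : SL k} (h : A * A = 1) : A = 1 ∨ A = hS (-1) := by
  have hdet : A.1 0 0 * A.1 1 1 - A.1 0 1 * A.1 1 0 = 1 := by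
    rw [← Matrix.det_fin_two, A.2]
  obtain ⟨g1, g2, g3, g4⟩ := one_ent (k := k)
  have a1 : (A * A).1 0 0 = 1 := by rw [h, g1]
  have a2 : (A * A).1 0 1 = 0 := by rw [h, g2]
  have a3 : (A * A).1 1 0 = 0 := by rw [h, g3]
  have a4 : (A * A).1 1 1 = 1 := by rw [h, g4]
  rw [mul00] at a1
  rw [mul01] at a2
  rw [mul10] at a3
  rw [mul11] at a4
  -- trace times everything
  have t1 : (A.1 0 0 + A.1 1 1) * A.1 0 1 = 0 := by linear_combination a2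
  have t2 : (A.1 0 0 + A.1 1 1) * A.1 1 0 = 0 := by linear_combination a3
  have t3 : (A.1 0 0 + A.1 1 1) * (A.1 0 0 - A.1 1 1) = 0 := by linear_combination a1 - a4
  by_cases ht : A.1 0 0 + A.1 1 1 = 0
  · exfalso
    apply h2
    linear_combination -a1 - hdet + A.1 0 0 * ht
  · have h01 := (mul_eq_zero.1 t1).resolve_left ht
    have h10 := (mul_eq_zero.1 t2).resolve_left ht
    have h00 := (mul_eq_zero.1 t3).resolve_left ht
    exact eq_of_scalar h01 h10 (by linear_combination h00)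

section Q

variable {i₀ : k} (hi : i₀ * i₀ = -1)
include hi

theorem i_ne : i₀ ≠ 0 := by
  rintro rfl
  rw [mul_zero] at hi
  exact neg_ne_zero.2 (one_ne_zero (α := k)) hi.symm

theorem i_inv : i₀⁻¹ = -i₀ := by
  have h := i_ne hi
  field_simp
  linear_combination hi

theorem xx_eq : (hS i₀ : SL k) * hS i₀ = hS (-1) := by
  obtain ⟨h1, h2, h3, h4⟩ := hS_ent (i_ne hi)
  obtain ⟨n1, n2, n3, n4⟩ := neg_ent (k := k)
  rw [i_inv hi] at h4
  refine sl_ext ?_ ?_ ?_ ?_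
  · rw [mul00, h1, h2, n1]; linear_combination hi
  · rw [mul01, h1, h2, n2]; ring
  · rw [mul10, h3, h4, n3]; ring
  · rw [mul11, h2, h3, h4, n4]; linear_combination hi

omit hi in
theorem nn_eq {μ : k} (hμ : μ ≠ 0) : (wS μ : SL k) * wS μ = hS (-1) := by
  obtain ⟨h1, h2, h3, h4⟩ := wS_ent (k := k) (c := μ) hμ
  obtain ⟨n1, n2, n3, n4⟩ := neg_ent (k := k)
  refine sl_ext ?_ ?_ ?_ ?_
  · rw [mul00, h1, h2, h3, n1]; field_simp; ring
  · rw [mul01, h1, h4, n2]; ring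
  · rw [mul10, h1, h4, n3]; ring
  · rw [mul11, h2, h3, h4, n4]; field_simp; ring

theorem xn_eq {μ : k} (hμ : μ ≠ 0) : (hS i₀ : SL k) * wS μ = wS μ * hS i₀ * hS (-1) := by
  obtain ⟨h1, h2, h3, h4⟩ := hS_ent (i_ne hi)
  obtain ⟨w1, w2, w3, w4⟩ := wS_ent (k := k) (c := μ) hμ
  obtain ⟨n1, n2, n3, n4⟩ := neg_ent (k := k)
  rw [i_inv hi] at h4
  refine sl_ext ?_ ?_ ?_ ?_
  · rw [mul00, mul00, mul00, mul01, h1, h2, h3, w1, w2, n1, n3]; ring
  · rw [mul01, mul01, mul00, mul01, h1, h2, h3, h4, w1, w2, w4, n2, n4]; ring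
  · rw [mul10, mul10, mul10, mul11, h1, h2, h3, h4, w1, w3, w4, n1, n3]; ring
  · rw [mul11, mul11, mul10, mul11, h1, h2, h3, h4, w2, w3, w4, n2, n4]; ring

/-- only scalars commute with the quaternion group -/
theorem scalar_of_comm (h2 : (2 : k) ≠ 0) {μ : k} (hμ : μ ≠ 0) {A : SL k} (h : A * hS i₀ = hS i₀ * A)
    (h' : A * wS μ = wS μ * A) : A = 1 ∨ A = hS (-1) := by
  obtain ⟨h1, h3, h4, h5⟩ := hS_ent (i_ne hi)
  obtain ⟨w1, w2, w3, w4⟩ := wS_ent (k := k) (c := μ) hμ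
  rw [i_inv hi] at h5
  have hne := i_ne hi
  have a1 : (A * hS i₀).1 0 1 = (hS i₀ * A).1 0 1 := by rw [h]
  have a2 : (A * hS i₀).1 1 0 = (hS i₀ * A).1 1 0 := by rw [h]
  rw [mul01, mul01, h1, h3, h5] at a1
  rw [mul10, mul10, h1, h4, h5] at a2
  have h2i : (2 : k) * i₀ ≠ 0 := mul_ne_zero h2 hne
  have b1 : A.1 0 1 = 0 := by
    have h6 : (2 * i₀) * A.1 0 1 = 0 := by linear_combination -a1
    exact (mul_eq_zero.1 h6).resolve_left h2i
  have b2 : A.1 1 0 = 0 := by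
    have h6 : (2 * i₀) * A.1 1 0 = 0 := by linear_combination a2
    exact (mul_eq_zero.1 h6).resolve_left h2i
  have a3 : (A * wS μ).1 0 1 = (wS μ * A).1 0 1 := by rw [h']
  rw [mul01, mul01, w1, w2, w4] at a3
  have b3 : A.1 0 0 = A.1 1 1 := by
    have h6 : μ * (A.1 0 0 - A.1 1 1) = 0 := by linear_combination a3
    linear_combination (mul_eq_zero.1 h6).resolve_left hμ
  exact eq_of_scalar b1 b2 b3

end Q

end Cfsg.Agent.H554.RX
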