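import Mathlib
import Cfsg.Agent.SmallSimple.S1000.QStruct
import Cfsg.Agent.H102.RV.Comp

/-!
# Quaternion fundamental subgroups in groups of order prime to 3 (helper554, TEAM RV, box R3 exceptional)

`QP M z x n` : `z` is the unique involution of `M`, `C(z)` normalises `M`, `x, n ∈ M`, `x² = n² = z`, `x n = n x z`.

* `QP.t4` : a `2`-subgroup normalised by `x`, `n` and not containing `z` is centralised by `z`;
* `comm_all` : `3 ∤ |H|`, `𝓩` an `H`-invariant set of such involutions in `O₂(H)`: they commute.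
-/

set_option autoImplicit false

namespace Cfsg.Agent.H554.RX

open Subgroup
open scoped Pointwise commutatorElement

variable {H : Type*} [Group H]

/-- an element of a finite group which conjugates `X` into itself normalises `X` -/
theorem norm_of [Finite H] {X : Subgroup H} {q : H} (hq : ∀ c ∈ X, q * c * q⁻¹ ∈ X) :
    q ∈ normalizer (X : Set H) := by
  have h2 := Cfsg.Agent.H102.RV.map_conj_eq hq
  rw [mem_normalizer_iff]
  intro c
  refine ⟨hq c, fun hc => ?_⟩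
  have h3 : q * c * q⁻¹ ∈ X.map (MulAut.conj q).toMonoidHom := h2.symm ▸ hc
  obtain ⟨c', hc', he⟩ := h3
  have h4 : q * c' * q⁻¹ = q * c * q⁻¹ := he
  have h5 : c' = c := by simpa using h4
  exact h5 ▸ hc'

/-- a quaternion pair in the tightly embedded subgroup `M` -/
structure QP (M : Subgroup H) (z x n : H) : Prop where
  hx : x ∈ M
  hn : n ∈ M
  xx : x * x = z
  nn : n * n = z
  xn : x * n = n * x * z
  sq : z * z = 1
  ne : z ≠ 1
  uniq : ∀ t ∈ M, t * t = 1 → t = 1 ∨ t = z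
  cent : ∀ g, g * z = z * g → ∀ m ∈ M, g * m * g⁻¹ ∈ M

namespace QP

variable {M : Subgroup H} {z x n : H} (h : QP M z x n)
include h

theorem hz : z ∈ M := h.xx ▸ M.mul_mem h.hx h.hx

theorem zi : z⁻¹ = z := inv_eq_of_mul_eq_one_left h.sq

theorem xz : x * z = z * x := by rw [← h.xx, mul_assoc]

theorem nz : n * z = z * n := by rw [← h.nn, mul_assoc]

/-- the pair `(x n, n)` -/
theorem xn_sq : (x * n) * (x * n) = z := by
  calc (x * n) * (x * n) = (x * n) * (n * x * z) := by rw [h.xn]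
    _ = x * (n * n) * x * z := by group
    _ = x * z * x * z := by rw [h.nn]
    _ = (x * x) * (z * z) := by
        rw [h.xz]
        calc z * x * x * z = z * (x * x) * z := by group
          _ = (x * x) * (z * z) := by rw [h.xx, mul_assoc]
    _ = z := by rw [h.sq, mul_one, h.xx]

theorem conj (g : H) : QP (M.map (MulAut.conj g).toMonoidHom) (g * z * g⁻¹) (g * x * g⁻¹) (g * n * g⁻¹) where
  hx := ⟨x, h.hx, rfl⟩
  hn := ⟨n, h.hn, rfl⟩
  xx := by rw [← h.xx]; group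
  nn := by rw [← h.nn]; group
  xn := by
    calc g * x * g⁻¹ * (g * n * g⁻¹) = g * (x * n) * g⁻¹ := by group
      _ = g * (n * x * z) * g⁻¹ := by rw [h.xn]
      _ = _ := by group
  sq := by
    calc g * z * g⁻¹ * (g * z * g⁻¹) = g * (z * z) * g⁻¹ := by group
      _ = 1 := by rw [h.sq]; group
  ne := by
    intro h1
    apply h.ne
    calc z = g⁻¹ * (g * z * g⁻¹) * g := by group
      _ = 1 := by rw [h1]; group
  uniq := by
    rintro _ ⟨t, ht, rfl⟩ h1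
    have h2 : t * t = 1 := by
      have h3 : g * t * g⁻¹ * (g * t * g⁻¹) = 1 := h1
      calc t * t = g⁻¹ * (g * t * g⁻¹ * (g * t * g⁻¹)) * g := by group
        _ = 1 := by rw [h3]; group
    rcases h.uniq t ht h2 with rfl | rfl
    · left
      show g * 1 * g⁻¹ = 1
      group
    · right; rfl
  cent := by
    rintro a ha _ ⟨m, hm, rfl⟩
    refine ⟨(g⁻¹ * a * g) * m * (g⁻¹ * a * g)⁻¹, h.cent _ ?_ m hm, ?_⟩
    · calc g⁻¹ * a * g * z = g⁻¹ * (a * (g * z * g⁻¹)) * g := by group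
        _ = g⁻¹ * ((g * z * g⁻¹) * a) * g := by rw [ha]
        _ = z * (g⁻¹ * a * g) := by group
    · show g * ((g⁻¹ * a * g) * m * (g⁻¹ * a * g)⁻¹) * g⁻¹ = a * (g * m * g⁻¹) * a⁻¹
      group

/-- `M` meets a `2`-group not containing `z` trivially -/
theorem inter [Finite H] {X : Subgroup H} (hX : IsPGroup 2 X) (hz : z ∉ X) {t : H} (ht : t ∈ M) (htX : t ∈ X) :
    t = 1 := by
  by_contra h1
  obtain ⟨j, hj⟩ := hX ⟨t, htX⟩
  have hj' : t ^ 2 ^ j = 1 := by simpa using congrArg Subtype.val hj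
  classical
  let i := Nat.find (p := fun i => t ^ 2 ^ i = 1) ⟨j, hj'⟩
  have hi : t ^ 2 ^ i = 1 := Nat.find_spec (p := fun i => t ^ 2 ^ i = 1) ⟨j, hj'⟩
  have hi0 : i ≠ 0 := by
    intro h2
    rw [h2, pow_zero, pow_one] at hi
    exact h1 hi
  have hlt : ¬ t ^ 2 ^ (i - 1) = 1 :=
    Nat.find_min (p := fun i => t ^ 2 ^ i = 1) ⟨j, hj'⟩ (show i - 1 < i by omega)
  have h3 : t ^ 2 ^ (i - 1) * t ^ 2 ^ (i - 1) = 1 := by
    rw [← pow_add, ← two_mul, ← pow_succ', show i - 1 + 1 = i by omega, hi]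
  rcases h.uniq _ (M.pow_mem ht _) h3 with h4 | h4
  · exact hlt h4
  · exact hz (h4 ▸ X.pow_mem htX _)

/-- the centraliser of `z` in a `2`-group not containing `z` is centralised by `x` and `n` -/
theorem comm_of [Finite H] {X : Subgroup H} (hX : IsPGroup 2 X) (hz : z ∉ X) {q : H} (hq : q ∈ M)
    (hqX : ∀ c ∈ X, q * c * q⁻¹ ∈ X) {c : H} (hc : c ∈ X) (hcz : c * z = z * c) : q * c = c * q := by
  have h1 : q * c * q⁻¹ * c⁻¹ = 1 := by
    refine h.inter hX hz ?_ ?_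
    · have h2 := h.cent c hcz q⁻¹ (M.inv_mem hq)
      have h3 := M.mul_mem hq h2
      have e : q * (c * q⁻¹ * c⁻¹) = q * c * q⁻¹ * c⁻¹ := by group
      rwa [e] at h3
    · exact X.mul_mem (hqX c hc) (X.inv_mem hc)
  rw [mul_inv_eq_one, mul_inv_eq_iff_eq_mul] at h1
  exact h1

/-- **T4**. -/
theorem t4 [Finite H] {X : Subgroup H} (hX : IsPGroup 2 X) (hz : z ∉ X) (hxX : ∀ c ∈ X, x * c * x⁻¹ ∈ X)
    (hnX : ∀ c ∈ X, n * c * n⁻¹ ∈ X) : ∀ c ∈ X, c * z = z * c := by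
  by_contra hcon
  push Not at hcon
  obtain ⟨d, hd, hdz⟩ := hcon
  -- the centraliser
  let C : Subgroup H := X ⊓ centralizer {z}
  have hC : ∀ c, c ∈ C ↔ c ∈ X ∧ c * z = z * c := fun c => by
    show c ∈ X ⊓ centralizer {z} ↔ _
    rw [mem_inf, mem_centralizer_singleton_iff]
  let Q : Subgroup H := closure {x, n}
  have hQM : Q ≤ M := (closure_le _).2 (by rintro _ (rfl | rfl); exacts [h.hx, h.hn])
  have hQX : ∀ q ∈ Q, ∀ c ∈ X, q * c * q⁻¹ ∈ X := by
    have h1 : Q ≤ normalizer (X : Set H) := by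
      refine (closure_le _).2 ?_
      rintro _ (rfl | rfl)
      · exact norm_of hxX
      · exact norm_of hnX
    intro q hq c hc
    exact (mem_normalizer_iff.1 (h1 hq) c).1 hc
  have hcomm : ∀ q ∈ Q, ∀ c ∈ C, q * c = c * q := fun q hq c hc =>
    h.comm_of hX hz (hQM hq) (hQX q hq) ((hC c).1 hc).1 ((hC c).1 hc).2
  have hcX : ∀ q ∈ Q, ∀ c ∈ C, q * c * q⁻¹ ∈ C := by
    intro q hq c hc
    rw [hcomm q hq c hc, mul_inv_cancel_right]
    exact hc
  -- `Q` is a 2-group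
  have hQ2 : IsPGroup 2 Q := by
    have hx2 : IsPGroup 2 (zpowers x) := by
      have h4 : x ^ 2 ^ 2 = 1 := by
        rw [show (2 : ℕ) ^ 2 = 2 * 2 by norm_num, pow_mul, pow_two x, h.xx, pow_two, h.sq]
      rintro ⟨_, i, rfl⟩
      refine ⟨2, Subtype.ext ?_⟩
      show (x ^ i) ^ 2 ^ 2 = 1
      rw [← zpow_natCast, ← zpow_mul, mul_comm, zpow_mul, zpow_natCast, h4, one_zpow]
    have hn2 : IsPGroup 2 (zpowers n) := by
      have h4 : n ^ 2 ^ 2 = 1 := by
        rw [show (2 : ℕ) ^ 2 = 2 * 2 by norm_num, pow_mul, pow_two n, h.nn, pow_two, h.sq]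
      rintro ⟨_, i, rfl⟩
      refine ⟨2, Subtype.ext ?_⟩
      show (n ^ i) ^ 2 ^ 2 = 1
      rw [← zpow_natCast, ← zpow_mul, mul_comm, zpow_mul, zpow_natCast, h4, one_zpow]
    have e1 : n * x * n⁻¹ = x ^ (3 : ℤ) := by
      have e2 : n * x = x * n * z := by
        rw [h.xn, mul_assoc (n * x), h.sq, mul_one]
      have e3 : n * (z * n⁻¹) = z := by rw [← mul_assoc, h.nz]; group
      rw [e2, show x * n * z * n⁻¹ = x * (n * (z * n⁻¹)) by group, e3, show (3 : ℤ) = ((3 : ℕ) : ℤ) by norm_num,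
        zpow_natCast, pow_succ, pow_two, h.xx, h.xz]
    have hxi : ∀ b ∈ zpowers n, ∀ a ∈ zpowers x, b * a * b⁻¹ ∈ zpowers x := by
      have h1 : zpowers n ≤ normalizer (zpowers x : Set H) := by
        rw [zpowers_le]
        refine norm_of ?_
        rintro _ ⟨i, rfl⟩
        refine ⟨3 * i, ?_⟩
        show x ^ (3 * i) = n * x ^ i * n⁻¹
        rw [zpow_mul, ← e1, conj_zpow]
      intro b hb a ha
      exact (mem_normalizer_iff.1 (h1 hb) a).1 ha
    have h6 : IsPGroup 2 (zpowers x ⊔ zpowers n : Subgroup H) := Cfsg.Agent.H102.RV.isPGroup_sup hx2 hn2 hxi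
    refine h6.to_le ((closure_le _).2 ?_)
    rintro _ (rfl | rfl)
    · exact mem_sup_left (mem_zpowers _)
    · exact mem_sup_right (mem_zpowers _)
  have hXQ2 : IsPGroup 2 (X ⊔ Q : Subgroup H) := Cfsg.Agent.H102.RV.isPGroup_sup hX hQ2 hQX
  have hCX : C ≤ X := inf_le_left
  have hlt : C ⊔ Q < X ⊔ Q := by
    refine lt_of_le_of_ne (sup_le_sup_right hCX Q) fun he => ?_
    have h1 : d ∈ C ⊔ Q := he ▸ mem_sup_left hd
    obtain ⟨c, hc, q, hq, e⟩ := (Cfsg.Agent.H102.RV.mem_sup_iff' hcX).1 h1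
    have h2 : q ∈ X := by
      have : q = c⁻¹ * d := by rw [← e]; group
      rw [this]
      exact X.mul_mem (X.inv_mem (hCX hc)) hd
    have h3 := h.inter hX hz (hQM hq) h2
    rw [h3, mul_one] at e
    exact hdz (e ▸ ((hC c).1 hc).2)
  obtain ⟨g, hg, hgC, hgn⟩ := Cfsg.Agent.H102.RV.exists_normalizing hlt hXQ2
  obtain ⟨a, ha, q, hq, rfl⟩ := (Cfsg.Agent.H102.RV.mem_sup_iff' hQX).1 hg
  have haC : a ∉ C := fun h1 => hgC (mul_mem (mem_sup_left h1) (mem_sup_right hq))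
  -- `a` normalises `C Q`
  have han : ∀ y ∈ Q, ∃ c ∈ C, a * y * a⁻¹ = c * y := by
    intro y hy
    have h1 := hgn (q⁻¹ * y * q) (mem_sup_right (Q.mul_mem (Q.mul_mem (Q.inv_mem hq) hy) hq))
    have e1 : a * q * (q⁻¹ * y * q) * (a * q)⁻¹ = a * y * a⁻¹ := by group
    rw [e1] at h1
    obtain ⟨c, hc, y', hy', e⟩ := (Cfsg.Agent.H102.RV.mem_sup_iff' hcX).1 h1
    refine ⟨c, hc, ?_⟩
    have h2 : y' * y⁻¹ ∈ X := by
      have e2 : y' * y⁻¹ = c⁻¹ * (a * (y * a⁻¹ * y⁻¹)) := by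
        have : y' = c⁻¹ * (a * y * a⁻¹) := by rw [← e]; group
        rw [this]; group
      rw [e2]
      exact X.mul_mem (X.inv_mem (hCX hc)) (X.mul_mem ha (hQX y hy _ (X.inv_mem ha)))
    have h3 := h.inter hX hz (M.mul_mem (hQM hy') (M.inv_mem (hQM hy))) h2
    rw [mul_inv_eq_one] at h3
    rw [← e, h3]
  have hxQ : x ∈ Q := subset_closure (by simp)
  have hnQ : n ∈ Q := subset_closure (by simp)
  have hzQ : z ∈ Q := h.xx ▸ Q.mul_mem hxQ hxQ
  obtain ⟨cz, hcz, ez⟩ := han z hzQ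
  obtain ⟨cn, hcn, en⟩ := han n hnQ
  -- `x` commutes with `a z a⁻¹`
  have h1 : x * (a * z * a⁻¹) = (a * z * a⁻¹) * x := by
    rw [ez, ← mul_assoc, hcomm x hxQ cz hcz, mul_assoc, h.xz, mul_assoc]
  have h2 := (h.conj a).cent x h1 _ (h.conj a).hn
  rw [en] at h2
  have e3 : x * (cn * n) * x⁻¹ = cn * n * z := by
    calc x * (cn * n) * x⁻¹ = (x * cn) * n * x⁻¹ := by group
      _ = cn * (x * n) * x⁻¹ := by rw [hcomm x hxQ cn hcn]; group
      _ = cn * n * (x * z) * x⁻¹ := by rw [h.xn]; group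
      _ = cn * n * z := by rw [h.xz]; group
  rw [e3] at h2
  have h3 : z ∈ M.map (MulAut.conj a).toMonoidHom := by
    have h4 := (M.map (MulAut.conj a).toMonoidHom).mul_mem
      ((M.map (MulAut.conj a).toMonoidHom).inv_mem (h.conj a).hn) h2
    rw [en] at h4
    have e : (cn * n)⁻¹ * (cn * n * z) = z := by group
    rwa [e] at h4
  rcases (h.conj a).uniq z h3 h.sq with h4 | h4
  · exact h.ne h4
  · refine haC ((hC a).2 ⟨ha, ?_⟩)
    calc a * z = (a * z * a⁻¹) * a := by group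
      _ = z * a := by rw [← h4]

end QP

/-! ### class two -/

/-- the commutator -/
def cm (a b : H) : H := a * b * a⁻¹ * b⁻¹

theorem cm_eq_one {a b : H} : cm a b = 1 ↔ a * b = b * a := by
  unfold cm
  rw [mul_inv_eq_one, mul_inv_eq_iff_eq_mul]

theorem cm_comm {a b : H} : a * b = cm a b * (b * a) := by
  unfold cm; group

theorem cm_inv (a b : H) : (cm a b)⁻¹ = cm b a := by
  unfold cm; group

/-- `D` is of class at most 2, `D / A` is elementary abelian, `A` is central in `D` -/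
structure Cl (A D : Subgroup H) : Prop where
  le : A ≤ D
  cen : ∀ a ∈ A, ∀ d ∈ D, a * d = d * a
  sq : ∀ d ∈ D, d * d ∈ A
  com : ∀ d ∈ D, ∀ e ∈ D, cm d e ∈ A
  nA : A.Normal
  nD : D.Normal
  pD : IsPGroup 2 D

/-- the critical subgroup argument -/
theorem exists_cl [Finite H] {D : Subgroup H} (hn : D.Normal) (hD : IsPGroup 2 D)
    (hab : ∀ B : Subgroup H, B.Normal → B ≤ D → (∀ a ∈ B, ∀ b ∈ B, a * b = b * a) → ∀ b ∈ B, ∀ d ∈ D, b * d = d * b) :
    ∃ A, Cl A D := by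
  have := Fact.mk Nat.prime_two
  obtain ⟨Y, hYD, hnY, hsq, hcom, hcen⟩ := Cfsg.Agent.SmallSimple.S1000.QStruct.exists_critical hD
  have hYn : Y.Normal := by
    have h1 : normalizer (D : Set H) = ⊤ := normalizer_eq_top_iff.2 hn
    rw [h1, top_le_iff] at hnY
    exact normalizer_eq_top_iff.1 hnY
  have hcn : (centralizer (Y : Set H)).Normal := inferInstance
  have hAn : (Y ⊓ centralizer (Y : Set H)).Normal := inferInstance
  have hA := hab (Y ⊓ centralizer (Y : Set H)) hAn (inf_le_left.trans hYD) (fun a ha b hb =>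
    (mem_centralizer_iff.1 ha.2 b hb.1).symm)
  have hcomm : ∀ d ∈ D, ∀ y ∈ Y, cm d y ∈ Y ⊓ centralizer (Y : Set H) := by
    intro d hd y hy
    have h1 := hcom y hy d hd
    have e : cm d y = (⁅y, d⁆)⁻¹ := by rw [commutatorElement_def]; unfold cm; group
    rw [e]
    exact Subgroup.inv_mem _ h1
  have key : ∀ d ∈ D, (∀ y ∈ Y, d * y = y * d) → d ∈ Y ⊓ centralizer (Y : Set H) := by
    intro d hd hdy
    have h1 : d ∈ centralizer (Y : Set H) := mem_centralizer_iff.2 fun y hy => (hdy y hy).symm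
    exact ⟨hcen ⟨hd, h1⟩, h1⟩
  refine ⟨Y ⊓ centralizer (Y : Set H), ⟨inf_le_left.trans hYD, hA, ?_, ?_, hAn, hn, hD⟩⟩
  · intro d hd
    refine key _ (D.mul_mem hd hd) fun y hy => ?_
    obtain ⟨a, ha⟩ : ∃ a, a = cm d y := ⟨_, rfl⟩
    have haA : a ∈ Y ⊓ centralizer (Y : Set H) := ha ▸ hcomm d hd y hy
    have h1 : d * y = a * (y * d) := by rw [ha]; exact cm_comm
    have hay : a * y = y * a := hA a haA y (hYD hy)
    have had : a * d = d * a := hA a haA d hd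
    have hyy : y * y ∈ Y ⊓ centralizer (Y : Set H) := ⟨Y.mul_mem hy hy, by
      have := hsq y hy
      rwa [pow_two] at this⟩
    have h2 : d * (y * y) = (y * y) * d := (hA _ hyy d hd).symm
    have h3 : a * a = 1 := by
      have h4 : d * (y * y) = a * a * (y * y) * d := by
        calc d * (y * y) = (d * y) * y := by group
          _ = (a * (y * d)) * y := by rw [h1]
          _ = a * (y * (d * y)) := by group
          _ = a * (y * (a * (y * d))) := by rw [h1]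
          _ = a * ((y * a) * y) * d := by group
          _ = a * ((a * y) * y) * d := by rw [hay]
          _ = a * a * (y * y) * d := by group
      rw [h2] at h4
      have h5 : a * a * (y * y * d) = y * y * d := by
        calc a * a * (y * y * d) = a * a * (y * y) * d := by group
          _ = y * y * d := h4.symm
      exact mul_eq_right.1 h5
    calc d * d * y = d * (d * y) := by group
      _ = d * (a * (y * d)) := by rw [h1]
      _ = (d * a) * (y * d) := by group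
      _ = (a * d) * (y * d) := by rw [had]
      _ = a * (d * y) * d := by group
      _ = a * (a * (y * d)) * d := by rw [h1]
      _ = (a * a) * (y * (d * d)) := by group
      _ = y * (d * d) := by rw [h3, one_mul]
  · intro d hd e he
    refine key _ (D.mul_mem (D.mul_mem (D.mul_mem hd he) (D.inv_mem hd)) (D.inv_mem he)) fun y hy => ?_
    -- `d y = a y d`, `e y = b y e`
    have hc : ∀ g ∈ D, ∃ a ∈ Y ⊓ centralizer (Y : Set H), g * y * g⁻¹ = a * y ∧ g⁻¹ * y * g = a⁻¹ * y := by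
      intro g hg
      refine ⟨cm g y, hcomm g hg y hy, by unfold cm; group, ?_⟩
      have h1 := hA _ (hcomm g hg y hy) g hg
      have h2 := hA _ (hcomm g hg y hy) y (hYD hy)
      have h3 : g * y = cm g y * (y * g) := cm_comm
      have h4 : y * g = (cm g y)⁻¹ * (g * y) := by rw [h3]; group
      calc g⁻¹ * y * g = g⁻¹ * (y * g) := by group
        _ = g⁻¹ * ((cm g y)⁻¹ * (g * y)) := by rw [h4]
        _ = (cm g y)⁻¹ * y := by
          have h5 : (cm g y)⁻¹ * g = g * (cm g y)⁻¹ := by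
            rw [inv_mul_eq_iff_eq_mul, ← mul_assoc, h1, mul_inv_cancel_right]
          rw [← mul_assoc, ← mul_assoc, mul_assoc g⁻¹, h5]; group
    obtain ⟨a, ha, ea, ea'⟩ := hc d hd
    obtain ⟨b, hb, eb, eb'⟩ := hc e he
    have hcenA : ∀ s ∈ Y ⊓ centralizer (Y : Set H), ∀ g ∈ D, g * s * g⁻¹ = s := fun s hs g hg => by
      rw [← hA s hs g hg, mul_inv_cancel_right]
    have h1 : cm d e * y * (cm d e)⁻¹ = y := by
      unfold cm
      calc d * e * d⁻¹ * e⁻¹ * y * (d * e * d⁻¹ * e⁻¹)⁻¹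
          = d * (e * (d⁻¹ * (e⁻¹ * y * e) * d) * e⁻¹) * d⁻¹ := by group
        _ = d * (e * (d⁻¹ * (b⁻¹ * y) * d) * e⁻¹) * d⁻¹ := by rw [eb']
        _ = d * (e * ((d⁻¹ * b⁻¹ * d⁻¹⁻¹) * (d⁻¹ * y * d)) * e⁻¹) * d⁻¹ := by group
        _ = d * (e * (b⁻¹ * (a⁻¹ * y)) * e⁻¹) * d⁻¹ := by
            rw [ea', hcenA _ (Subgroup.inv_mem _ hb) _ (D.inv_mem hd)]
        _ = d * ((e * b⁻¹ * e⁻¹) * (e * a⁻¹ * e⁻¹) * (e * y * e⁻¹)) * d⁻¹ := by group
        _ = d * (b⁻¹ * a⁻¹ * (b * y)) * d⁻¹ := by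
            rw [eb, hcenA _ (Subgroup.inv_mem _ hb) _ he, hcenA _ (Subgroup.inv_mem _ ha) _ he]
        _ = (d * b⁻¹ * d⁻¹) * (d * a⁻¹ * d⁻¹) * (d * b * d⁻¹) * (d * y * d⁻¹) := by group
        _ = b⁻¹ * a⁻¹ * b * (a * y) := by
            rw [ea, hcenA _ (Subgroup.inv_mem _ hb) _ hd, hcenA _ (Subgroup.inv_mem _ ha) _ hd, hcenA _ hb _ hd]
        _ = y := by
            have h5 : a⁻¹ * b = b * a⁻¹ := by
              have := hA b hb a (hYD ha.1)
              rw [inv_mul_eq_iff_eq_mul, ← mul_assoc, ← this, mul_inv_cancel_right]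
            rw [mul_assoc b⁻¹, h5]; group
    rwa [mul_inv_eq_iff_eq_mul] at h1

namespace Cl

variable {A D : Subgroup H} (C : Cl A D)
include C

theorem mul_left {a b c : H} (ha : a ∈ D) (hb : b ∈ D) (hc : c ∈ D) : cm (a * b) c = cm a c * cm b c := by
  have h1 := C.cen _ (C.com b hb c hc) a ha
  have h2 := C.cen _ (C.com b hb c hc) (cm a c) (C.le (C.com a ha c hc))
  rw [← h2]
  calc cm (a * b) c = a * cm b c * c * a⁻¹ * c⁻¹ := by unfold cm; group
    _ = cm b c * a * c * a⁻¹ * c⁻¹ := by rw [h1]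
    _ = cm b c * cm a c := by unfold cm; group

theorem sq_one {a b : H} (ha : a ∈ D) (hb : b ∈ D) : cm a b * cm a b = 1 := by
  rw [← C.mul_left ha ha hb, cm_eq_one]
  exact C.cen _ (C.sq a ha) b hb

theorem symm {a b : H} (ha : a ∈ D) (hb : b ∈ D) : cm b a = cm a b := by
  rw [← cm_inv, inv_eq_of_mul_eq_one_left (C.sq_one ha hb)]

theorem mul_right {a b c : H} (ha : a ∈ D) (hb : b ∈ D) (hc : c ∈ D) : cm a (b * c) = cm a b * cm a c := by
  rw [C.symm (D.mul_mem hb hc) ha, C.mul_left hb hc ha, C.symm ha hb, C.symm ha hc]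

theorem conj_left {a b : H} (g : H) (_ : a ∈ D) (_ : b ∈ D) :
    g * cm a b * g⁻¹ = cm (g * a * g⁻¹) (g * b * g⁻¹) := by unfold cm; group

variable {M : Subgroup H} {z x n : H}

theorem pA : IsPGroup 2 A := C.pD.to_le C.le

/-- `M ∩ D = ⟨z⟩` -/
theorem inter [Finite H] (h : QP M z x n) (hzA : z ∉ A) {t : H} (ht : t ∈ M) (htD : t ∈ D) : t = 1 ∨ t = z :=
  h.uniq t ht (h.inter C.pA hzA (M.mul_mem ht ht) (C.sq t htD))

theorem q_comm [Finite H] (h : QP M z x n) (hzD : z ∈ D) (hzA : z ∉ A) {q : H} (hq : q ∈ M) {s : H} (hs : s ∈ A) :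
    q * s = s * q :=
  h.comm_of C.pA hzA hq (fun c hc => C.nA.conj_mem c hc q) hs (C.cen s hs z hzD)

/-- the element `w = [q, v]` -/
theorem w_facts [Finite H] (h : QP M z x n) (hzD : z ∈ D) (hzA : z ∉ A) {q : H} (hq : q ∈ M) (hqq : q * q = z) {v : H}
    (hv : v ∈ D) (hvv : v * v = 1) :
    cm q v ∈ D ∧ cm q v * cm q v = cm z v ∧ q * cm q v = cm q v * q ∧ z * cm q v = cm q v * z ∧
      cm v (cm q v) = cm z v := by
  obtain ⟨w, hw⟩ : ∃ w, w = cm q v := ⟨_, rfl⟩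
  obtain ⟨c, hc⟩ : ∃ c, c = cm z v := ⟨_, rfl⟩
  rw [← hw, ← hc]
  have hcA : c ∈ A := hc ▸ C.com z hzD v hv
  have hwD : w ∈ D := by
    rw [hw]
    exact D.mul_mem (C.nD.conj_mem v hv q) (D.inv_mem hv)
  have hcc : c * c = 1 := hc ▸ C.sq_one hzD hv
  have hvi : v⁻¹ = v := inv_eq_of_mul_eq_one_left hvv
  have e1 : q * v * q⁻¹ = w * v := by rw [hw]; unfold cm; group
  have e2 : w * v * (w * v) = 1 := by
    rw [← e1]
    calc q * v * q⁻¹ * (q * v * q⁻¹) = q * (v * v) * q⁻¹ := by group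
      _ = 1 := by rw [hvv]; group
  have e3 : z * v * z⁻¹ = c * v := by rw [hc]; unfold cm; group
  have e4 : q * w * q⁻¹ * (w * v) = c * v := by
    rw [← e3, ← hqq, ← e1]
    calc q * w * q⁻¹ * (q * v * q⁻¹) = q * (w * v) * q⁻¹ := by group
      _ = q * (q * v * q⁻¹) * q⁻¹ := by rw [e1]
      _ = q * q * v * (q * q)⁻¹ := by group
  have e5 : q * w * q⁻¹ = c * w⁻¹ := by
    have : q * w * q⁻¹ * w = c := by
      have h2 : q * w * q⁻¹ * w * v = c * v := by rw [← e4]; group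
      exact mul_right_cancel h2
    rw [← this]; group
  have hqc : q * c * q⁻¹ = c := by
    rw [C.q_comm h hzD hzA hq hcA, mul_inv_cancel_right]
  have e6 : z * w * z⁻¹ = w := by
    rw [← hqq]
    calc q * q * w * (q * q)⁻¹ = q * (q * w * q⁻¹) * q⁻¹ := by group
      _ = q * (c * w⁻¹) * q⁻¹ := by rw [e5]
      _ = (q * c * q⁻¹) * (q * w * q⁻¹)⁻¹ := by group
      _ = c * (c * w⁻¹)⁻¹ := by rw [hqc, e5]
      _ = c * w * c⁻¹ := by group
      _ = w := by rw [C.cen c hcA w hwD, mul_inv_cancel_right]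
  have hzw : z * w = w * z := by rw [mul_inv_eq_iff_eq_mul] at e6; exact e6
  -- `[q, w] ∈ M ∩ A`
  have e7 : q * w * q⁻¹ * w⁻¹ = 1 := by
    refine h.inter C.pA hzA ?_ ?_
    · have h2 := h.cent w hzw.symm q⁻¹ (M.inv_mem hq)
      have h3 := M.mul_mem hq h2
      have e : q * (w * q⁻¹ * w⁻¹) = q * w * q⁻¹ * w⁻¹ := by group
      rwa [e] at h3
    · rw [e5]
      have e : c * w⁻¹ * w⁻¹ = c * (w * w)⁻¹ := by group
      rw [e]
      exact A.mul_mem hcA (A.inv_mem (C.sq w hwD))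
  have e8 : q * w = w * q := by
    rw [mul_inv_eq_one, mul_inv_eq_iff_eq_mul] at e7
    exact e7
  have e9 : w * w = c := by
    have h2 : q * w * q⁻¹ = w := by rw [e8, mul_inv_cancel_right]
    rw [h2] at e5
    calc w * w = (c * w⁻¹) * w := by rw [← e5]
      _ = c := by group
  refine ⟨hwD, e9, e8, hzw, ?_⟩
  have e10 : v * w * v⁻¹ = w⁻¹ := by
    rw [hvi]
    have : w * (v * w * v) = 1 := by rw [← e2]; group
    exact (inv_eq_of_mul_eq_one_right this).symm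
  show v * w * v⁻¹ * w⁻¹ = c
  rw [e10]
  calc w⁻¹ * w⁻¹ = (w * w)⁻¹ := by group
    _ = c := by rw [e9]; exact inv_eq_of_mul_eq_one_left hcc

/-- `w (x n) = w n · z · w x` -/
theorem w_mul [Finite H] (h : QP M z x n) (hzD : z ∈ D) (hzA : z ∉ A) {v : H} (hv : v ∈ D) (hvv : v * v = 1)
    (hne : cm z v ≠ 1) : cm (x * n) v = cm n v * z * cm x v := by
  obtain ⟨hxD, -, -, hx4, hx5⟩ := C.w_facts h hzD hzA h.hx h.xx hv hvv
  obtain ⟨hnD, -, -, hn4, hn5⟩ := C.w_facts h hzD hzA h.hn h.nn hv hvv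
  obtain ⟨hmD, -, -, hm4, hm5⟩ := C.w_facts h hzD hzA (M.mul_mem h.hx h.hn) h.xn_sq hv hvv
  obtain ⟨a, ha⟩ : ∃ a, a = cm x v := ⟨_, rfl⟩
  obtain ⟨b, hb⟩ : ∃ b, b = cm n v := ⟨_, rfl⟩
  obtain ⟨c, hc⟩ : ∃ c, c = cm z v := ⟨_, rfl⟩
  have hcc : c * c = 1 := hc ▸ C.sq_one hzD hv
  have e1 : cm (x * n) v = x * b * x⁻¹ * a := by rw [ha, hb]; unfold cm; group
  rw [← ha] at hxD hx4 hx5
  rw [← hb] at hnD hn4 hn5
  -- `b⁻¹ x b x⁻¹ ∈ M ∩ D`
  have h1 : b⁻¹ * x * b * x⁻¹ = 1 ∨ b⁻¹ * x * b * x⁻¹ = z := by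
    refine C.inter h hzA ?_ ?_
    · have h2 := h.cent b⁻¹ (by
        rw [inv_mul_eq_iff_eq_mul, ← mul_assoc, ← hn4, mul_inv_cancel_right]) x h.hx
      rw [inv_inv] at h2
      exact M.mul_mem h2 (M.inv_mem h.hx)
    · have e : b⁻¹ * x * b * x⁻¹ = b⁻¹ * (x * b * x⁻¹) := by group
      rw [e]
      exact D.mul_mem (D.inv_mem hnD) (C.nD.conj_mem b hnD x)
  rcases h1 with h1 | h1
  · exfalso
    have e2 : x * b * x⁻¹ = b := by
      have : b⁻¹ * (x * b * x⁻¹) = 1 := by rw [← h1]; group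
      exact (inv_mul_eq_one.1 this).symm
    rw [e1, e2] at hm5
    rw [C.mul_right hv hnD hxD, hn5, hx5, ← hc, hcc] at hm5
    exact hne (by rw [← hc]; exact hm5.symm)
  · rw [e1, ← ha, ← hb]
    have e2 : x * b * x⁻¹ = b * z := by
      calc x * b * x⁻¹ = b * (b⁻¹ * x * b * x⁻¹) := by group
        _ = b * z := by rw [h1]
    rw [e2]

theorem inv_left {a b : H} (ha : a ∈ D) (hb : b ∈ D) : cm a⁻¹ b = cm a b := by
  have h1 := C.mul_left (D.inv_mem ha) ha hb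
  rw [inv_mul_cancel] at h1
  have h2 : cm (1 : H) b = 1 := by unfold cm; group
  rw [h2] at h1
  exact mul_right_cancel (h1.symm.trans (C.sq_one ha hb).symm)

omit C in
theorem cm_of_comm {a b : H} (h : a * b = b * a) : cm a b = 1 := cm_eq_one.2 h

theorem tau [Finite H] (h : QP M z x n) (hzD : z ∈ D) (hzA : z ∉ A) {y w u z₁ c : H} (hy : y ∈ M) (hw : w ∈ D)
    (hu : u ∈ D) (hz1 : z₁ ∈ D) (hz1s : z₁ * z₁ = 1) (hcc : c * c = 1) (e1 : cm z w = c) (e2 : cm z z₁ = c)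
    (e3 : y * z₁ * y⁻¹ = u * z₁) (e4 : z * u = u * z) (e5 : z₁ * w = w * z₁) (e6 : cm u z₁ = c) :
    (y * w * y⁻¹ = w * u⁻¹ ∧ cm w u = c) ∨ cm w u = 1 := by
  have hwz : w * z₁ ∈ D := D.mul_mem hw hz1
  have h1 : w * z₁ * z = z * (w * z₁) := by
    have h2 : cm z (w * z₁) = 1 := by rw [C.mul_right hzD hw hz1, e1, e2, hcc]
    exact (cm_eq_one.1 h2).symm
  obtain ⟨ξ, hξ⟩ : ∃ ξ, ξ = y * (w * z₁) * y⁻¹ * (w * z₁)⁻¹ := ⟨_, rfl⟩
  have h2 : ξ = 1 ∨ ξ = z := by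
    rw [hξ]
    refine C.inter h hzA ?_ (D.mul_mem (C.nD.conj_mem _ hwz y) (D.inv_mem hwz))
    have h2 := h.cent (w * z₁) h1 y⁻¹ (M.inv_mem hy)
    have h3 := M.mul_mem hy h2
    have e : y * (w * z₁ * y⁻¹ * (w * z₁)⁻¹) = y * (w * z₁) * y⁻¹ * (w * z₁)⁻¹ := by group
    rwa [e] at h3
  have e7 : y * w * y⁻¹ = ξ * w * u⁻¹ := by
    have e8 : y * w * y⁻¹ = ξ * (w * z₁) * (y * z₁ * y⁻¹)⁻¹ := by rw [hξ]; group
    rw [e8, e3]
    group
  have e9 : cm (ξ * w * u⁻¹) (u * z₁) = 1 := by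
    rw [← e7, ← e3, ← C.conj_left y hw hz1, cm_of_comm e5.symm]
    group
  have hξD : ξ ∈ D := by rcases h2 with h2 | h2 <;> rw [h2]; exacts [D.one_mem, hzD]
  rw [C.mul_left (D.mul_mem hξD hw) (D.inv_mem hu) (D.mul_mem hu hz1), C.mul_left hξD hw (D.mul_mem hu hz1),
    C.mul_right hξD hu hz1, C.mul_right hw hu hz1, C.inv_left hu (D.mul_mem hu hz1), C.mul_right hu hu hz1,
    cm_of_comm e5.symm, cm_of_comm (rfl : u * u = u * u), e6, mul_one, one_mul] at e9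
  rcases h2 with rfl | rfl
  · left
    have h3 : cm (1 : H) u = 1 := by unfold cm; group
    have h4 : cm (1 : H) z₁ = 1 := by unfold cm; group
    rw [h3, h4, one_mul, one_mul] at e9
    refine ⟨by rw [e7, one_mul], ?_⟩
    exact mul_right_cancel (e9.trans hcc.symm)
  · right
    rw [cm_of_comm e4, e2, one_mul] at e9
    have h5 : c * cm w u = cm w u * c := by
      have := C.cen _ (C.com w hw u hu) c (by rw [← e2]; exact C.le (C.com _ hzD _ hz1))
      exact this.symm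
    rw [h5, mul_assoc, hcc, mul_one] at e9
    exact e9

omit C in
/-- a 3-cycle -/
theorem three_dvd [Finite H] {g w u : H} (e1 : g * w * g⁻¹ = u) (e2 : g * u * g⁻¹ = u * w⁻¹)
    (e3 : g * (u * w⁻¹) * g⁻¹ = w) (hne : u * w ≠ w * u) : 3 ∣ Nat.card H := by
  by_contra h3
  have key : ∀ k : ℕ, g ^ (3 * k) * w * (g ^ (3 * k))⁻¹ = w := by
    intro k
    induction k with
    | zero => simp
    | succ k ih =>
      calc g ^ (3 * (k + 1)) * w * (g ^ (3 * (k + 1)))⁻¹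
          = g * (g * (g * (g ^ (3 * k) * w * (g ^ (3 * k))⁻¹) * g⁻¹) * g⁻¹) * g⁻¹ := by
            rw [show 3 * (k + 1) = 1 + (1 + (1 + 3 * k)) by ring, pow_add, pow_add, pow_add, pow_one]; group
        _ = w := by rw [ih, e1, e2, e3]
  have hm : g ^ Nat.card H = 1 := pow_card_eq_one'
  have h4 : Nat.card H = 3 * (Nat.card H / 3) + Nat.card H % 3 := (Nat.div_add_mod _ _).symm
  have h5 : Nat.card H % 3 = 1 ∨ Nat.card H % 3 = 2 := by omega
  have h6 := key (Nat.card H / 3)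
  rcases h5 with h5 | h5
  · rw [h5] at h4
    rw [h4, pow_add, pow_one] at hm
    have h7 : g ^ (3 * (Nat.card H / 3)) = g⁻¹ := eq_inv_of_mul_eq_one_left hm
    rw [h7, inv_inv] at h6
    have h8 : w = u := by
      rw [← e1]
      calc w = g * (g⁻¹ * w * g) * g⁻¹ := by group
        _ = g * w * g⁻¹ := by rw [h6]
    exact hne (by rw [h8])
  · rw [h5] at h4
    rw [h4, pow_add] at hm
    have h7 : g ^ (3 * (Nat.card H / 3)) = (g ^ 2)⁻¹ := eq_inv_of_mul_eq_one_left hm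
    rw [h7, inv_inv] at h6
    have h8 : w = u * w⁻¹ := by
      calc w = g ^ 2 * ((g ^ 2)⁻¹ * w * g ^ 2) * (g ^ 2)⁻¹ := by group
        _ = g ^ 2 * w * (g ^ 2)⁻¹ := by rw [h6]
        _ = g * (g * w * g⁻¹) * g⁻¹ := by rw [pow_two]; group
        _ = u * w⁻¹ := by rw [e1, e2]
    have h9 : u = w * w := by
      calc u = (u * w⁻¹) * w := by group
        _ = w * w := by rw [← h8]
    exact hne (by rw [h9]; group)

/-- **Two of the involutions commute.** -/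
theorem comm_two [Finite H] (h3 : ¬ 3 ∣ Nat.card H) {M₁ M₂ : Subgroup H} {z₁ x₁ n₁ z₂ x₂ n₂ : H} (h1 : QP M₁ z₁ x₁ n₁)
    (h2 : QP M₂ z₂ x₂ n₂) (hz1 : z₁ ∈ D) (hz2 : z₂ ∈ D) : z₁ * z₂ = z₂ * z₁ := by
  by_contra hcon
  have hz1A : z₁ ∉ A := fun h => hcon (C.cen _ h _ hz2)
  have hz2A : z₂ ∉ A := fun h => hcon (C.cen _ h _ hz1).symm
  obtain ⟨c, hc⟩ : ∃ c, c = cm z₁ z₂ := ⟨_, rfl⟩
  have hc' : c = cm z₂ z₁ := by rw [hc, C.symm hz1 hz2]
  have hcc : c * c = 1 := hc ▸ C.sq_one hz1 hz2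
  have hc1 : c ≠ 1 := fun h => hcon (cm_eq_one.1 (hc.symm.trans h))
  obtain ⟨hu, hu2, hu3, hu4, hu5⟩ := C.w_facts h2 hz2 hz2A h2.hx h2.xx hz1 h1.sq
  obtain ⟨u, hud⟩ : ∃ u, u = cm x₂ z₁ := ⟨_, rfl⟩
  rw [← hud] at hu hu2 hu3 hu4 hu5
  rw [← hc'] at hu2 hu5
  have hyu : x₂ * z₁ * x₂⁻¹ = u * z₁ := by rw [hud]; unfold cm; group
  have hu6 : cm u z₁ = c := by rw [C.symm hz1 hu, hu5]
  have key : ∀ q ∈ M₁, q * q = z₁ → cm (cm q z₂) u = 1 := by
    intro q hq hqq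
    obtain ⟨hw, hw2, hw3, hw4, hw5⟩ := C.w_facts h1 hz1 hz1A hq hqq hz2 h2.sq
    obtain ⟨w, hwd⟩ : ∃ w, w = cm q z₂ := ⟨_, rfl⟩
    rw [← hwd] at hw hw2 hw3 hw4 hw5 ⊢
    rw [← hc] at hw2 hw5
    have hqw : q * z₂ * q⁻¹ = w * z₂ := by rw [hwd]; unfold cm; group
    have hw6 : cm w z₂ = c := by rw [C.symm hz2 hw, hw5]
    rcases C.tau h2 hz2 hz2A h2.hx hw hu hz1 h1.sq hcc hw5 hc'.symm hyu hu4 hw4 hu6 with ⟨h4, h5⟩ | h4
    · exfalso
      rcases C.tau h1 hz1 hz1A hq hu hw hz2 h2.sq hcc hu5 hc.symm hqw hw4 hu4 hw6 with ⟨h6, -⟩ | h6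
      · refine h3 (three_dvd (g := q * x₂) (w := w) (u := u) ?_ ?_ ?_ ?_)
        · calc q * x₂ * w * (q * x₂)⁻¹ = q * (x₂ * w * x₂⁻¹) * q⁻¹ := by group
            _ = (q * w * q⁻¹) * (q * u * q⁻¹)⁻¹ := by rw [h4]; group
            _ = w * (u * w⁻¹)⁻¹ := by rw [hw3, h6]; group
            _ = (w * w) * u⁻¹ := by group
            _ = u := by rw [hw2, ← hu2]; group
        · calc q * x₂ * u * (q * x₂)⁻¹ = q * (x₂ * u * x₂⁻¹) * q⁻¹ := by group
            _ = q * u * q⁻¹ := by rw [hu3]; group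
            _ = u * w⁻¹ := h6
        · have e1 : q * x₂ * w * (q * x₂)⁻¹ = u := by
            calc q * x₂ * w * (q * x₂)⁻¹ = q * (x₂ * w * x₂⁻¹) * q⁻¹ := by group
            _ = (q * w * q⁻¹) * (q * u * q⁻¹)⁻¹ := by rw [h4]; group
            _ = w * (u * w⁻¹)⁻¹ := by rw [hw3, h6]; group
            _ = (w * w) * u⁻¹ := by group
            _ = u := by rw [hw2, ← hu2]; group
          have e2 : q * x₂ * u * (q * x₂)⁻¹ = u * w⁻¹ := by
            calc q * x₂ * u * (q * x₂)⁻¹ = q * (x₂ * u * x₂⁻¹) * q⁻¹ := by group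
            _ = q * u * q⁻¹ := by rw [hu3]; group
            _ = u * w⁻¹ := h6
          have e3 : cm u w⁻¹ = c := by
            rw [C.symm (D.inv_mem hw) hu, C.inv_left hw hu, h5]
          calc q * x₂ * (u * w⁻¹) * (q * x₂)⁻¹ = (q * x₂ * u * (q * x₂)⁻¹) * (q * x₂ * w * (q * x₂)⁻¹)⁻¹ := by group
            _ = u * w⁻¹ * u⁻¹ := by rw [e1, e2]
            _ = cm u w⁻¹ * w⁻¹ := by unfold cm; group
            _ = (w * w) * w⁻¹ := by rw [e3, hw2]
            _ = w := by group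
        · intro h7
          exact hc1 (h5.symm.trans (cm_of_comm h7.symm))
      · rw [C.symm hw hu, h5] at h6
        exact hc1 h6
    · exact h4
  have k1 := key _ h1.hx h1.xx
  have k2 := key _ h1.hn h1.nn
  have k3 := key _ (M₁.mul_mem h1.hx h1.hn) h1.xn_sq
  obtain ⟨hxD, -⟩ := C.w_facts h1 hz1 hz1A h1.hx h1.xx hz2 h2.sq
  obtain ⟨hnD, -⟩ := C.w_facts h1 hz1 hz1A h1.hn h1.nn hz2 h2.sq
  rw [C.w_mul h1 hz1 hz1A hz2 h2.sq (fun h => hc1 (hc.trans h)), C.mul_left (D.mul_mem hnD hz1) hxD hu,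
    C.mul_left hnD hz1 hu, k1, k2, hu5, one_mul, mul_one] at k3
  exact hc1 k3

end Cl

/-- **Theorem TE.** -/
theorem comm_all [Finite H] (h3 : ¬ 3 ∣ Nat.card H) {𝓩 : Set H} (hQ : ∀ z ∈ 𝓩, ∃ M x n, QP M z x n)
    (hinv : ∀ g, ∀ z ∈ 𝓩, g * z * g⁻¹ ∈ 𝓩) {P : Subgroup H} (hP2 : IsPGroup 2 P) (hP : ∀ z ∈ 𝓩, z ∈ P) :
    ∀ z ∈ 𝓩, ∀ z' ∈ 𝓩, z * z' = z' * z := by
  let D : Subgroup H := closure 𝓩
  have hDP : D ≤ P := (closure_le _).2 hP
  have hD2 : IsPGroup 2 D := hP2.to_le hDP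
  have hDn : D.Normal := by
    refine ⟨fun d hd g => ?_⟩
    have h1 : D ≤ D.comap (MulAut.conj g).toMonoidHom := (closure_le _).2 fun z hz => subset_closure (hinv g z hz)
    exact h1 hd
  obtain ⟨A, hA⟩ := exists_cl hDn hD2 (by
    intro B hBn hBD hBab b hb
    have hB2 : IsPGroup 2 B := hD2.to_le hBD
    have h1 : D ≤ centralizer {b} := by
      refine (closure_le _).2 fun z hz => ?_
      rw [SetLike.mem_coe, mem_centralizer_singleton_iff]
      by_cases hzB : z ∈ B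
      · exact hBab z hzB b hb
      · obtain ⟨M, x, n, h⟩ := hQ z hz
        exact (h.t4 hB2 hzB (fun c hc => hBn.conj_mem c hc x) (fun c hc => hBn.conj_mem c hc n) b hb).symm
    intro d hd
    exact (mem_centralizer_singleton_iff.1 (h1 hd)).symm)
  intro z hz z' hz'
  obtain ⟨M₁, x₁, n₁, h1⟩ := hQ z hz
  obtain ⟨M₂, x₂, n₂, h2⟩ := hQ z' hz'
  exact hA.comm_two h3 h1 h2 (subset_closure hz) (subset_closure hz')

end Cfsg.Agent.H554.RX
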